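import Mathlib
import Cfsg.Agent.Lib.CharInt.Burnside

/-!
# Involutions in a coset of a perfect normal subgroup

If `N` is a normal subgroup that is perfect with trivial centre, then every coset `g N` has fewer
than half of its elements with square `1`.
-/

set_option autoImplicit false
set_option linter.style.haveILetI false

namespace Cfsg.Agent.Atoms

open Subgroup
open scoped commutatorElement

universe u

variable {G : Type u} [Group G]

theorem isSolvable_perm_small (Y : Type u) [Finite Y] (h : Nat.card Y ≤ 4) :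
    Group.IsSolvable (Equiv.Perm Y) := by
  have hc := Nat.card_perm (α := Y)
  interval_cases hk : Nat.card Y
  · exact CharInt.isSolvable_of_card_eq (p := 2) (q := 3) (a := 0) (b := 0) Nat.prime_two Nat.prime_three (by rw [hc]; decide)
  · exact CharInt.isSolvable_of_card_eq (p := 2) (q := 3) (a := 0) (b := 0) Nat.prime_two Nat.prime_three (by rw [hc]; decide)
  · exact CharInt.isSolvable_of_card_eq (p := 2) (q := 3) (a := 1) (b := 0) Nat.prime_two Nat.prime_three (by rw [hc]; decide)
  · exact CharInt.isSolvable_of_card_eq (p := 2) (q := 3) (a := 1) (b := 1) Nat.prime_two Nat.prime_three (by rw [hc]; decide)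
  · exact CharInt.isSolvable_of_card_eq (p := 2) (q := 3) (a := 3) (b := 1) Nat.prime_two Nat.prime_three (by rw [hc]; decide)

/-- In a perfect group with trivial centre a nontrivial element has at least five conjugates. -/
theorem five_mul_card_centralizer_le {H : Type u} [Group H] [Finite H] (hperf : commutator H = ⊤)
    (hZ : center H = ⊥) {c : H} (hc : c ≠ 1) :
    5 * Nat.card (centralizer ({c} : Set H)) ≤ Nat.card H := by
  set C := centralizer ({c} : Set H)
  rw [← card_mul_index C, mul_comm]
  refine Nat.mul_le_mul_left _ ?_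
  by_contra hlt
  haveI := isSolvable_perm_small (H ⧸ C) (show Nat.card (H ⧸ C) ≤ 4 by
    rw [← index_eq_card]; omega)
  have hbot : (MulAction.toPermHom H (H ⧸ C)).range = ⊥ := by
    set R := (MulAction.toPermHom H (H ⧸ C)).range
    by_contra hR
    haveI : Nontrivial R := (nontrivial_iff_ne_bot R).2 hR
    have hsurj := (MulAction.toPermHom H (H ⧸ C)).rangeRestrict_surjective
    refine (Group.IsSolvable.commutator_lt_top_of_nontrivial R).ne ?_
    rw [← map_top_of_surjective _ hsurj, ← hperf, map_commutator_eq]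
    rw [MonoidHom.range_eq_top.2 hsurj]
    rfl
  refine hc ?_
  have hcz : c ∈ center H := by
    rw [mem_center_iff]
    intro h
    have hh : MulAction.toPermHom H (H ⧸ C) h = 1 := mem_bot.1 (hbot ▸ ⟨h, rfl⟩)
    have := Equiv.ext_iff.1 hh ((1 : H) : H ⧸ C)
    rw [MulAction.toPermHom_apply, MulAction.toPerm_apply, Equiv.Perm.one_apply,
      MulAction.Quotient.smul_coe, smul_eq_mul, mul_one, QuotientGroup.eq, mul_one] at this
    exact (mem_centralizer_iff.1 ((C.inv_mem_iff).1 this) c rfl).symm
  exact mem_bot.1 (hZ ▸ hcz)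

variable [Finite G]

/-- A coset of a perfect normal subgroup with trivial centre has fewer than half involutions. -/
theorem two_mul_involutions_lt (N : Subgroup G) [hN : N.Normal] (hne : N ≠ ⊥)
    (hperf : commutator N = ⊤) (hZ : center N = ⊥) (g : G) :
    2 * {x : G | x ^ 2 = 1 ∧ g⁻¹ * x ∈ N}.ncard < Nat.card N := by
  classical
  haveI := Fintype.ofFinite G
  set U : Finset G := Finset.univ.filter fun x => x ^ 2 = 1 ∧ g⁻¹ * x ∈ N with hU
  have hUc : {x : G | x ^ 2 = 1 ∧ g⁻¹ * x ∈ N}.ncard = U.card := by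
    rw [← Set.ncard_coe_finset]
    congr 1
    ext; simp [hU]
  rw [hUc]
  have hmem : ∀ {x}, x ∈ U → x * x = 1 ∧ g⁻¹ * x ∈ N := fun {x} hx => by
    simpa [hU, pow_two] using hx
  -- products of two members lie in `N`
  have hprod : ∀ {x y}, x ∈ U → y ∈ U → x * y ∈ N := fun {x y} hx hy => by
    have := N.mul_mem (N.inv_mem (hmem hx).2) (hmem hy).2
    rwa [mul_inv_rev, inv_inv, mul_assoc, mul_inv_cancel_left,
      inv_eq_of_mul_eq_one_right (hmem hx).1] at this
  set f : G × G → ↥N := fun q => if h : q.1 * q.2 ∈ N then ⟨q.1 * q.2, h⟩ else 1 with hf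
  have hfib : ∀ c : ↥N, ((U ×ˢ U).filter fun q => f q = c).card ≤
      if c = 1 then U.card else Nat.card (centralizer ({c} : Set N)) := by
    intro c
    have hval : ∀ q ∈ (U ×ˢ U).filter (fun q => f q = c),
        q.1 ∈ U ∧ q.2 ∈ U ∧ q.1 * q.2 = c ∧ q.1 * (c : G) * q.1 = (c : G)⁻¹ := by
      intro q hq
      simp only [Finset.mem_filter, Finset.mem_product] at hq
      have h := hq.2
      simp only [hf, dif_pos (hprod hq.1.1 hq.1.2)] at h
      have h' : q.1 * q.2 = c := congrArg Subtype.val h
      refine ⟨hq.1.1, hq.1.2, h', ?_⟩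
      rw [← h', mul_inv_rev, inv_eq_of_mul_eq_one_right (hmem hq.1.1).1,
        inv_eq_of_mul_eq_one_right (hmem hq.1.2).1, ← mul_assoc, (hmem hq.1.1).1, one_mul]
    have hinj : Set.InjOn Prod.fst (((U ×ˢ U).filter fun q => f q = c : Finset (G × G)) : Set (G × G)) := by
      intro q hq q' hq' he
      have e := (hval q hq).2.2.1.trans (hval q' hq').2.2.1.symm
      rw [he] at e
      exact Prod.ext he (mul_left_cancel e)
    split_ifs with hc
    · exact Finset.card_le_card_of_injOn Prod.fst (fun q hq => (hval q hq).1) hinj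
    · rcases ((U ×ˢ U).filter fun q => f q = c).eq_empty_or_nonempty with he | ⟨q₀, hq₀⟩
      · simp [he]
      · obtain ⟨h01, -, -, h0c⟩ := hval q₀ hq₀
        rw [Nat.card_eq_fintype_card, ← Fintype.card_coe]
        refine Fintype.card_le_of_injective (fun q => ⟨⟨q₀.1 * q.1.1, hprod h01 (hval q.1 q.2).1⟩, ?_⟩)
          fun q q' he => ?_
        · obtain ⟨h1, -, -, h1c⟩ := hval q.1 q.2
          refine mem_centralizer_iff.2 fun z hz => Subtype.ext ?_
          rw [Set.mem_singleton_iff.1 hz]
          show (c : G) * (q₀.1 * q.1.1) = q₀.1 * q.1.1 * c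
          have e0 : (c : G) * q₀.1 = q₀.1 * (c : G)⁻¹ := by
            rw [← h0c, ← mul_assoc, ← mul_assoc, (hmem h01).1, one_mul]
          have e1 : (c : G)⁻¹ * q.1.1 = q.1.1 * c := by
            rw [← h1c, mul_assoc, (hmem h1).1, mul_one]
          rw [← mul_assoc, e0, mul_assoc, e1, ← mul_assoc]
        · exact Subtype.ext (hinj q.2 q'.2 (mul_left_cancel
            (congrArg (fun z : centralizer ({c} : Set N) => ((z : N) : G)) he)))
  have hsum : U.card * U.card ≤
      ∑ c : ↥N, if c = 1 then U.card else Nat.card (centralizer ({c} : Set N)) := by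
    rw [← Finset.card_product,
      Finset.card_eq_sum_card_fiberwise (f := f) (t := Finset.univ) fun _ _ => Finset.mem_univ _]
    exact Finset.sum_le_sum fun c _ => hfib c
  rw [← Finset.add_sum_erase _ _ (Finset.mem_univ (1 : ↥N)), if_pos rfl] at hsum
  have hrest : 5 * (∑ c ∈ (Finset.univ : Finset ↥N).erase 1,
      if c = 1 then U.card else Nat.card (centralizer ({c} : Set N))) ≤
      (Nat.card N - 1) * Nat.card N := by
    rw [Finset.mul_sum]
    refine (Finset.sum_le_card_nsmul _ _ (Nat.card N) fun c hc => ?_).trans ?_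
    · rw [if_neg (Finset.ne_of_mem_erase hc)]
      exact five_mul_card_centralizer_le hperf hZ (Finset.ne_of_mem_erase hc)
    · rw [smul_eq_mul, Finset.card_erase_of_mem (Finset.mem_univ _), Finset.card_univ,
        Nat.card_eq_fintype_card]
  -- `N` is not tiny
  obtain ⟨c, hc⟩ : ∃ c : ↥N, c ≠ 1 := by
    haveI := (nontrivial_iff_ne_bot N).2 hne
    exact exists_ne 1
  have hten : 10 ≤ Nat.card N := by
    refine le_trans ?_ (five_mul_card_centralizer_le hperf hZ hc)
    refine Nat.mul_le_mul_left 5 (show 1 < Nat.card _ from ?_)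
    refine Finite.one_lt_card_iff_nontrivial.2 ⟨⟨1, one_mem _⟩, ⟨c, ?_⟩, fun h => hc ?_⟩
    · exact mem_centralizer_iff.2 fun z hz => by rw [Set.mem_singleton_iff.1 hz]
    · exact (congrArg Subtype.val h).symm
  by_contra hlt
  rw [not_lt] at hlt
  obtain ⟨e, he⟩ : ∃ e, 2 * U.card = Nat.card N + e := ⟨2 * U.card - Nat.card N, by omega⟩
  obtain ⟨n, hn⟩ : ∃ n, Nat.card N = n + 1 := ⟨Nat.card N - 1, by omega⟩
  rw [hn, Nat.add_sub_cancel] at hrest
  nlinarith

end Cfsg.Agent.Atoms
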