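import Mathlib

/-!
# Atoms of a normal symmetric generating set

If `S` is a symmetric subset containing `1` and invariant under conjugation, and some finite set
`X` has `|X S| - |X| < |S| - 1` inside `M = ⟨S⟩`, then the atom at `1` (Hamidoune) is a
nontrivial normal subgroup `A` with `|A S| - |A| ≤ |X S| - |X|` and `A S ≠ M`.

Also: if every left coset of a subgroup `N` meets `T` in fewer than half of its elements, then so
does every nonempty union of left cosets.
-/

set_option autoImplicit false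

namespace Cfsg.Agent.Atoms

open scoped Pointwise
open Subgroup

variable {G : Type*} [Group G]

/-- Subsets `X` of `⟨S⟩` such that `X S` is not all of it. -/
def Good (S X : Set G) : Prop :=
  X.Nonempty ∧ X ⊆ (closure S : Set G) ∧ X * S ≠ (closure S : Set G)

theorem mul_subset_closure {S X : Set G} (hX : X ⊆ (closure S : Set G)) :
    X * S ⊆ (closure S : Set G) := by
  rintro _ ⟨x, hx, s, hs, rfl⟩
  exact (closure S).mul_mem (hX hx) (subset_closure hs)

theorem image_mul_left_mul (a : G) (X S : Set G) :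
    ((a * ·) '' X) * S = (a * ·) '' (X * S) := by
  ext y
  constructor
  · rintro ⟨_, ⟨x, hx, rfl⟩, s, hs, rfl⟩
    exact ⟨x * s, ⟨x, hx, s, hs, rfl⟩, (mul_assoc a x s).symm⟩
  · rintro ⟨_, ⟨x, hx, s, hs, rfl⟩, rfl⟩
    exact ⟨a * x, ⟨x, hx, rfl⟩, s, hs, mul_assoc a x s⟩

theorem image_conj_mul (g : G) (X S : Set G) (hS : ∀ x ∈ S, ∀ h : G, h * x * h⁻¹ ∈ S) :
    ((MulAut.conj g) '' X) * S = (MulAut.conj g) '' (X * S) := by
  ext y
  constructor
  · rintro ⟨_, ⟨x, hx, rfl⟩, s, hs, rfl⟩
    refine ⟨x * (g⁻¹ * s * g), ⟨x, hx, _, by simpa using hS s hs g⁻¹, rfl⟩, ?_⟩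
    simp [mul_assoc]
  · rintro ⟨_, ⟨x, hx, s, hs, rfl⟩, rfl⟩
    exact ⟨_, ⟨x, hx, rfl⟩, _, hS s hs g, by simp [mul_assoc]⟩

theorem card_le_mul [Finite G] {S X : Set G} (h1 : (1 : G) ∈ S) : X.ncard ≤ (X * S).ncard :=
  Set.ncard_le_ncard (fun x hx => ⟨x, hx, 1, h1, mul_one x⟩) (Set.toFinite _)

/-- The complement of `X S` is again good, of boundary at most that of `X`. -/
theorem good_compl [Finite G] {S X : Set G} (hinv : ∀ x ∈ S, x⁻¹ ∈ S) (hX : Good S X) :
    Good S ((closure S : Set G) \ (X * S)) ∧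
      (((closure S : Set G) \ (X * S)) * S).ncard + X.ncard ≤ (closure S : Set G).ncard ∧
      ((closure S : Set G) \ (X * S)).ncard + (X * S).ncard = (closure S : Set G).ncard := by
  set M := (closure S : Set G)
  have hsub : (M \ (X * S)) * S ⊆ M \ X := by
    rintro _ ⟨c, hc, s, hs, rfl⟩
    refine ⟨mul_subset_closure Set.diff_subset ⟨c, hc, s, hs, rfl⟩, fun h => hc.2 ?_⟩
    exact ⟨c * s, h, s⁻¹, hinv s hs, mul_inv_cancel_right c s⟩
  have hcard := Set.ncard_le_ncard hsub (Set.toFinite _)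
  have hd : (M \ X).ncard + X.ncard = M.ncard :=
    Set.ncard_sdiff_add_ncard_of_subset hX.2.1 (Set.toFinite M)
  refine ⟨⟨?_, Set.diff_subset, fun h => ?_⟩, by omega,
    Set.ncard_sdiff_add_ncard_of_subset (mul_subset_closure hX.2.1) (Set.toFinite M)⟩
  · rw [Set.nonempty_iff_ne_empty, Ne, Set.diff_eq_empty]
    exact fun h => hX.2.2 (Set.Subset.antisymm (mul_subset_closure hX.2.1) h)
  · obtain ⟨x, hx⟩ := hX.1
    exact (hsub (h ▸ hX.2.1 hx)).2 hx

/-- The atom at `1` of a normal symmetric set is a normal subgroup. -/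
theorem exists_normal_atom [Finite G] {S X : Set G} (h1 : (1 : G) ∈ S)
    (hinv : ∀ x ∈ S, x⁻¹ ∈ S) (hconj : ∀ x ∈ S, ∀ h : G, h * x * h⁻¹ ∈ S) (hX : Good S X)
    (hsmall : (X * S).ncard + 1 < X.ncard + S.ncard) :
    ∃ A : Subgroup G, A.Normal ∧ A ≠ ⊥ ∧ A ≤ closure S ∧
      (A : Set G) * S ≠ (closure S : Set G) ∧
      ((A : Set G) * S).ncard + X.ncard ≤ (A : Set G).ncard + (X * S).ncard := by
  classical
  set M := (closure S : Set G) with hM
  set d : Set G → ℕ := fun Y => (Y * S).ncard - Y.ncard with hd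
  have hdd : ∀ Y : Set G, (Y * S).ncard = Y.ncard + d Y := fun Y => by
    have := card_le_mul (X := Y) h1
    simp only [hd]
    omega
  have hex : ∃ k, ∃ Y, Good S Y ∧ d Y = k := ⟨d X, X, hX, rfl⟩
  set κ := Nat.find hex with hκ
  have hκle : ∀ Y, Good S Y → κ ≤ d Y := fun Y hY => Nat.find_min' hex ⟨Y, hY, rfl⟩
  have hex2 : ∃ k, ∃ Y, Good S Y ∧ d Y = κ ∧ Y.ncard = k := by
    obtain ⟨Y, hY, hYd⟩ := Nat.find_spec hex
    exact ⟨_, Y, hY, hYd, rfl⟩
  set α := Nat.find hex2 with hα
  have hαle : ∀ Y, Good S Y → d Y = κ → α ≤ Y.ncard :=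
    fun Y hY hYd => Nat.find_min' hex2 ⟨Y, hY, hYd, rfl⟩
  -- an atom is at most half of what is left
  have half : ∀ A, Good S A → d A = κ → A.ncard = α → 2 * α + κ ≤ M.ncard := by
    intro A hA hAd hAc
    obtain ⟨hC, h2, h3⟩ := good_compl hinv hA
    rw [← hM] at h2 h3 hC
    have hCd : d (M \ (A * S)) = κ := by
      have := hκle _ hC
      have := hdd (M \ (A * S))
      have := hdd A
      omega
    have := hαle _ hC hCd
    have := hdd A
    omega
  have disj : ∀ A B, Good S A → d A = κ → A.ncard = α → Good S B → d B = κ → B.ncard = α →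
      (A ∩ B).Nonempty → A = B := by
    intro A B hA hAd hAc hB hBd hBc hne
    have hfin : ∀ Y : Set G, Y.Finite := fun Y => Set.toFinite Y
    have hI : Good S (A ∩ B) := by
      refine ⟨hne, Set.inter_subset_left.trans hA.2.1, fun h => hA.2.2 ?_⟩
      exact Set.Subset.antisymm (mul_subset_closure hA.2.1)
        (h.symm.subset.trans (Set.mul_subset_mul_right Set.inter_subset_left))
    have hIsub : (A ∩ B) * S ⊆ (A * S) ∩ (B * S) :=
      Set.subset_inter (Set.mul_subset_mul_right Set.inter_subset_left)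
        (Set.mul_subset_mul_right Set.inter_subset_right)
    have hIle := Set.ncard_le_ncard hIsub (hfin _)
    have hu := Set.ncard_union_add_ncard_inter (A * S) (B * S) (hfin _) (hfin _)
    have hu' := Set.ncard_union_add_ncard_inter A B (hfin _) (hfin _)
    have hUeq : (A ∪ B) * S = A * S ∪ B * S := Set.union_mul
    have hκI := hκle _ hI
    have e1 := hdd A
    have e2 := hdd B
    have e3 := hdd (A ∩ B)
    have e4 := hdd (A ∪ B)
    have hsmallI : α ≤ (A ∩ B).ncard := by
      by_cases hU : (A ∪ B) * S = M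
      · exfalso
        have := half A hA hAd hAc
        have hpos : 0 < (A ∩ B).ncard := hne.ncard_pos (hfin _)
        rw [← hUeq, hU] at hu
        omega
      · have hUg : Good S (A ∪ B) := ⟨hne.mono (Set.inter_subset_left.trans Set.subset_union_left),
          Set.union_subset hA.2.1 hB.2.1, hU⟩
        have := hκle _ hUg
        rw [← hUeq] at hu
        refine hαle _ hI ?_
        omega
    have hA' : A ∩ B = A :=
      Set.eq_of_subset_of_ncard_le Set.inter_subset_left (by omega) (hfin _)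
    have hB' : A ∩ B = B :=
      Set.eq_of_subset_of_ncard_le Set.inter_subset_right (by omega) (hfin _)
    rw [← hA', hB']
  -- move an atom to `1`
  obtain ⟨A₁, hA₁, hA₁d, hA₁c⟩ := Nat.find_spec hex2
  have trans : ∀ A, Good S A → d A = κ → A.ncard = α → ∀ a ∈ closure S,
      Good S ((a * ·) '' A) ∧ d ((a * ·) '' A) = κ ∧ ((a * ·) '' A).ncard = α := by
    intro A hA hAd hAc a ha
    have hc : ∀ Y : Set G, ((a * ·) '' Y).ncard = Y.ncard :=
      fun Y => Set.ncard_image_of_injective Y (mul_right_injective a)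
    refine ⟨⟨hA.1.image _, ?_, ?_⟩, ?_, (hc A).trans hAc⟩
    · rintro _ ⟨x, hx, rfl⟩
      exact (closure S).mul_mem ha (hA.2.1 hx)
    · intro h
      refine hA.2.2 (Set.Subset.antisymm (mul_subset_closure hA.2.1) fun m hm => ?_)
      rw [image_mul_left_mul] at h
      obtain ⟨y, hy, hym⟩ := h.symm.subset ((closure S).mul_mem ha hm)
      exact mul_left_cancel hym ▸ hy
    · simp only [hd] at hAd ⊢
      rw [image_mul_left_mul, hc, hc, hAd]
  obtain ⟨x₁, hx₁⟩ := hA₁.1
  obtain ⟨hA, hAd, hAc⟩ := trans A₁ hA₁ hA₁d hA₁c x₁⁻¹ (inv_mem (hA₁.2.1 hx₁))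
  set A := (x₁⁻¹ * ·) '' A₁
  have h1A : (1 : G) ∈ A := ⟨x₁, hx₁, inv_mul_cancel x₁⟩
  have hstab : ∀ a ∈ A, (a⁻¹ * ·) '' A = A := by
    intro a ha
    obtain ⟨h₁, h₂, h₃⟩ := trans A hA hAd hAc a⁻¹ (inv_mem (hA.2.1 ha))
    exact disj _ _ h₁ h₂ h₃ hA hAd hAc ⟨1, ⟨a, ha, inv_mul_cancel a⟩, h1A⟩
  have hinvA : ∀ a ∈ A, a⁻¹ ∈ A := fun a ha => (hstab a ha).subset ⟨1, h1A, mul_one _⟩
  let H : Subgroup G :=
    { carrier := A
      one_mem' := h1A
      inv_mem' := fun {a} ha => hinvA a ha
      mul_mem' := fun {a b} ha hb => by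
        have := (hstab a⁻¹ (hinvA a ha)).subset ⟨b, hb, rfl⟩
        simpa using this }
  refine ⟨H, ⟨fun x hx g => ?_⟩, fun hbot => ?_, hA.2.1, hA.2.2, ?_⟩
  · have hc : ∀ Y : Set G, ((MulAut.conj g) '' Y).ncard = Y.ncard :=
      fun Y => Set.ncard_image_of_injective Y (MulAut.conj g).injective
    have hMc : ∀ m ∈ closure S, ∀ h : G, h * m * h⁻¹ ∈ closure S := by
      intro m hm h
      have : closure S ≤ (closure S).comap (MulAut.conj h).toMonoidHom :=
        (closure_le _).2 fun s hs => subset_closure (hconj s hs h)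
      exact this hm
    have hg : Good S ((MulAut.conj g) '' A) := by
      refine ⟨hA.1.image _, ?_, fun h => hA.2.2 ?_⟩
      · rintro _ ⟨y, hy, rfl⟩
        exact hMc y (hA.2.1 hy) g
      · refine Set.Subset.antisymm (mul_subset_closure hA.2.1) fun m hm => ?_
        rw [image_conj_mul g A S hconj] at h
        obtain ⟨y, hy, hym⟩ := h.symm.subset (hMc m hm g)
        exact (MulAut.conj g).injective hym ▸ hy
    have hgd : d ((MulAut.conj g) '' A) = κ := by
      simp only [hd] at hAd ⊢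
      rw [image_conj_mul g A S hconj, hc, hc, hAd]
    have := disj _ _ hg hgd ((hc A).trans hAc) hA hAd hAc ⟨1, ⟨1, h1A, map_one _⟩, h1A⟩
    exact this.subset ⟨x, hx, rfl⟩
  · have hA1 : A = {(1 : G)} := congrArg (fun K : Subgroup G => (K : Set G)) hbot
    have e := hdd A
    rw [hA1, Set.singleton_one, one_mul, ← Set.singleton_one, ← hA1, hAd] at e
    have hAone : A.ncard = 1 := by rw [hA1, Set.ncard_singleton]
    have := hκle X hX
    have := hdd X
    omega
  · show (A * S).ncard + X.ncard ≤ A.ncard + (X * S).ncard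
    have := hκle X hX
    have := hdd X
    have := hdd A
    omega

/-- A nonempty union of left cosets meets `T` in less than half of its elements if every coset
does. -/
theorem two_mul_inter_lt [Finite G] (N : Subgroup G) (T U : Set G) (hne : U.Nonempty)
    (hU : ∀ u ∈ U, ∀ m ∈ N, u * m ∈ U)
    (hT : ∀ g : G, 2 * {x : G | x ∈ T ∧ g⁻¹ * x ∈ N}.ncard < Nat.card N) :
    2 * (T ∩ U).ncard < U.ncard := by
  classical
  haveI := Fintype.ofFinite G
  set A : Finset G := Finset.univ.filter (· ∈ T ∩ U) with hA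
  set B : Finset G := Finset.univ.filter (· ∈ U) with hB
  have key : ∑ u ∈ B, (A.filter fun x => u⁻¹ * x ∈ N).card = A.card * Nat.card N := by
    have := Finset.sum_card_bipartiteAbove_eq_sum_card_bipartiteBelow
      (r := fun u x : G => u⁻¹ * x ∈ N) (s := B) (t := A)
    simp only [Finset.bipartiteAbove, Finset.bipartiteBelow] at this
    rw [this, Finset.sum_const_nat (m := Nat.card N)]
    intro x hx
    simp only [hA, Finset.mem_filter, Finset.mem_univ, true_and] at hx
    rw [← Nat.card_eq_finsetCard]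
    refine Nat.card_congr
      { toFun := fun u => ⟨(u : G)⁻¹ * x, (Finset.mem_filter.1 u.2).2⟩
        invFun := fun m => ⟨x * (m : G)⁻¹, Finset.mem_filter.2 ⟨?_, by simp⟩⟩
        left_inv := fun u => Subtype.ext (by simp)
        right_inv := fun m => Subtype.ext (by simp) }
    simp only [hB, Finset.mem_filter, Finset.mem_univ, true_and]
    exact hU x hx.2 _ (N.inv_mem m.2)
  have hlt : ∀ u ∈ B, 2 * (A.filter fun x => u⁻¹ * x ∈ N).card < Nat.card N := by
    intro u _
    refine lt_of_le_of_lt ?_ (hT u)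
    rw [← Set.ncard_coe_finset]
    refine Nat.mul_le_mul_left 2 (Set.ncard_le_ncard (fun x hx => ?_) (Set.toFinite _))
    simp only [hA, Finset.coe_filter, Finset.mem_filter, Finset.mem_univ, true_and,
      Set.mem_setOf_eq] at hx
    exact ⟨hx.1.1, hx.2⟩
  have hBne : B.Nonempty := by
    obtain ⟨u, hu⟩ := hne
    exact ⟨u, by simp [hB, hu]⟩
  have hsum := Finset.sum_lt_sum_of_nonempty hBne hlt
  rw [← Finset.mul_sum, key, Finset.sum_const, smul_eq_mul] at hsum
  have eA : (T ∩ U).ncard = A.card := by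
    rw [← Set.ncard_coe_finset]
    congr 1
    ext; simp [hA]
  have eB : U.ncard = B.card := by
    rw [← Set.ncard_coe_finset]
    congr 1
    ext; simp [hB]
  rw [eA, eB]
  refine Nat.lt_of_mul_lt_mul_right (a := Nat.card N) ?_
  rw [mul_assoc]
  exact hsum

end Cfsg.Agent.Atoms
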